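import Mathlib
import Cfsg.Agent.LieClassical.SUBasic
import Cfsg.Agent.OddHalf.D6.QThree.U43Tw
import Cfsg.Agent.FastGrp
import Cfsg.Agent.Prune
set_option linter.all false
prune_inst 0x7f00000000000000000000000000000000000000000000000000000000000000000000000000000000000000000000000000000000000000000000000000000000000000000000000000000000000000003fffffffffffffffffffffffffffbeffbdffffffff
open scoped Cfsg.Agent.FastGrp

/-!
# `PSU₄(3)`: no involution normalises a subgroup of order seven (helper236)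

* `lin` : the matrix computation;
* `no_inv` : `t x t⁻¹ = x⁻¹`, `x^7 = 1`, `t^2 = 1`, `x ≠ 1` is impossible in `PSU₄(3)`;
* `card_cent` : the centralizers of the involutions of `PSU₄(3)` have order `2^7·3^2`.
-/

set_option autoImplicit false
set_option linter.unusedSectionVars false

namespace Cfsg.Agent.H236.USeven

open Subgroup Cfsg Module

universe u v

section lin

variable {F : Type u} {V : Type v} [Field F] [Fintype F] [AddCommGroup V] [Module F V] [Module.Finite F V]

theorem three_eq (hF : Fintype.card F = 9) : (3 : F) = 0 := by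
  have h1 : ((Fintype.card F : ℕ) : F) = 0 := FiniteField.cast_card_eq_zero F
  rw [hF] at h1
  have h2 : (3 : F) * 3 = 0 := by
    have : (3 : F) * 3 = ((9 : ℕ) : F) := by norm_num
    rw [this, h1]
  exact mul_self_eq_zero.1 h2

/-- the fixed points of an element of order seven -/
theorem fix_card (hF : Fintype.card F = 9) (x : V →ₗ[F] V) (hx : x ^ 7 = 1) :
    9 ^ finrank F V ≡ 9 ^ finrank F (LinearMap.ker (x - 1)) [MOD 7] := by
  have hfin : Finite V := Module.finite_of_finite F
  let xu : (Module.End F V)ˣ := ⟨x, x ^ 6, by rw [← pow_succ', hx], by rw [← pow_succ, hx]⟩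
  have hxu : xu ^ 7 = 1 := Units.ext hx
  have hG : IsPGroup 7 (zpowers xu) := by
    rintro ⟨w, j, rfl⟩
    refine ⟨1, Subtype.ext ?_⟩
    change (xu ^ j) ^ (7 ^ 1) = 1
    rw [pow_one, ← zpow_natCast, ← zpow_mul, mul_comm, zpow_mul, zpow_natCast, hxu, one_zpow]
  have : Fact (Nat.Prime 7) := ⟨by norm_num⟩
  have h1 := hG.card_modEq_card_fixedPoints V
  have h2 : Nat.card (MulAction.fixedPoints (zpowers xu) V) = Nat.card (LinearMap.ker (x - 1)) := by
    apply Nat.card_congr
    refine Equiv.setCongr ?_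
    ext v
    rw [MulAction.mem_fixedPoints, SetLike.mem_coe, LinearMap.mem_ker]
    constructor
    · intro h
      have h3 := h ⟨xu, mem_zpowers xu⟩
      have h4 : x v = v := h3
      rw [LinearMap.sub_apply, h4, End.one_apply, sub_self]
    · intro h
      have h4 : x v = v := by
        rw [LinearMap.sub_apply, End.one_apply] at h
        exact sub_eq_zero.1 h
      have h5 : xu ∈ MulAction.stabilizer (Module.End F V)ˣ v := h4
      rintro ⟨w, hw⟩
      have h6 : w ∈ MulAction.stabilizer (Module.End F V)ˣ v := by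
        have : zpowers xu ≤ MulAction.stabilizer (Module.End F V)ˣ v := by
          rw [zpowers_le]
          exact h5
        exact this hw
      exact h6
  rw [h2, Module.natCard_eq_pow_finrank (K := F) (V := V),
    Module.natCard_eq_pow_finrank (K := F) (V := LinearMap.ker (x - 1)), Nat.card_eq_fintype_card, hF] at h1
  exact h1

theorem lin (hF : Fintype.card F = 9) (hV : finrank F V = 4) (x t : V →ₗ[F] V) {μ : F} (hμ : μ ≠ 0) (hx : x ^ 7 = 1)
    (hx1 : x ≠ 1) (ht : ∀ v, t (t v) = (μ * μ) • v) (hxt : ∀ v, x (t (x v)) = t v) : False := by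
  have h3 := three_eq hF
  have h2 : (2 : F) ≠ 0 := by
    intro h
    have : (1 : F) = 3 - 2 := by norm_num
    rw [h3, h, sub_zero] at this
    exact one_ne_zero this
  have h7 : (7 : F) ≠ 0 := by
    intro h
    have : (1 : F) = 7 - 2 * 3 := by norm_num
    rw [h3, h, mul_zero, sub_zero] at this
    exact one_ne_zero this
  have hx7 : ∀ v, x (x (x (x (x (x (x v)))))) = v := by
    intro v
    have := LinearMap.congr_fun hx v
    simpa only [pow_succ, End.mul_apply, _root_.pow_zero, _root_.one_mul, _root_.Module.End.one_apply] using this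
  -- dimensions
  have hker := fix_card hF x hx
  have hrk := LinearMap.finrank_range_add_finrank_ker (x - 1)
  rw [hV] at hker hrk
  have hc4 : finrank F (LinearMap.ker (x - 1)) ≤ 4 := by omega
  have hW : finrank F (LinearMap.range (x - 1)) = 3 := by
    have hne : finrank F (LinearMap.ker (x - 1)) ≠ 4 := by
      intro h
      have h5 : LinearMap.ker (x - 1) = ⊤ := Submodule.eq_top_of_finrank_eq (by rw [h, hV])
      apply hx1
      rw [LinearMap.ker_eq_top] at h5
      exact sub_eq_zero.1 h5
    generalize finrank F (LinearMap.ker (x - 1)) = c at *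
    have : c = 1 := by
      unfold Nat.ModEq at hker
      interval_cases c
      · norm_num at hker
      · rfl
      · norm_num at hker
      · norm_num at hker
      · exact absurd rfl hne
    omega
  -- `x²` is fixed-point-free on `W`
  have hfree : ∀ w ∈ LinearMap.range (x - 1), x (x w) = w → w = 0 := by
    rintro w ⟨v, rfl⟩ h
    set w := (x - 1) v with hw
    have hxw : x w = w := by
      have := hx7 w
      rw [h, h, h] at this
      exact this
    have h5 : (∑ i ∈ Finset.range 7, x ^ i) * (x - 1) = 0 := by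
      rw [geom_sum_mul, hx, sub_self]
    have h6 : (∑ i ∈ Finset.range 7, x ^ i) w = 0 := by
      have := LinearMap.congr_fun h5 v
      exact this
    have h8 : ∀ i : ℕ, (x ^ i) w = w := by
      intro i
      induction i with
      | zero => rfl
      | succ i ih => rw [pow_succ, End.mul_apply, hxw, ih]
    rw [LinearMap.sum_apply, Finset.sum_congr rfl (fun i _ => h8 i), Finset.sum_const, Finset.card_range] at h6
    have h9 : (7 : F) • w = 0 := by
      rw [← h6]
      rw [← Nat.cast_smul_eq_nsmul F]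
      norm_num
    exact (smul_eq_zero.1 h9).resolve_left h7
  have htW : ∀ w ∈ LinearMap.range (x - 1), t w ∈ LinearMap.range (x - 1) := by
    rintro w ⟨v, rfl⟩
    refine ⟨- t (x v), ?_⟩
    have h5 := hxt v
    simp only [LinearMap.sub_apply, End.one_apply, map_neg, map_sub, h5]
    abel
  have hxW : ∀ w ∈ LinearMap.range (x - 1), x w ∈ LinearMap.range (x - 1) := by
    rintro w ⟨v, rfl⟩
    exact ⟨x v, by simp only [_root_.LinearMap.sub_apply, _root_.Module.End.one_apply, _root_.map_sub]⟩
  -- the eigenspaces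
  have hinj : Function.Injective x := by
    intro a b hab
    rw [← hx7 a, ← hx7 b, hab]
  have key : ∀ ν : F, ν ≠ 0 → finrank F ↥(LinearMap.range (x - 1) ⊓ LinearMap.ker (t - ν • (1 : V →ₗ[F] V))) ≤ 1 := by
    intro ν hν
    set U := LinearMap.range (x - 1) ⊓ LinearMap.ker (t - ν • (1 : V →ₗ[F] V)) with hU
    have hUt : ∀ u ∈ U, t u = ν • u := by
      intro u hu
      have := (Submodule.mem_inf.1 hu).2
      rw [LinearMap.mem_ker, LinearMap.sub_apply, LinearMap.smul_apply, End.one_apply] at this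
      exact sub_eq_zero.1 this
    have hd : Disjoint U (U.map x) := by
      rw [Submodule.disjoint_def]
      rintro u hu ⟨u', hu', rfl⟩
      have e1 := hUt _ hu
      have e2 := hUt _ hu'
      have e3 := hxt u'
      rw [e1, map_smul, e2] at e3
      have e4 : x (x u') = u' := by
        have := congrArg (fun w => ν⁻¹ • w) e3
        simpa [smul_smul, inv_mul_cancel₀ hν] using this
      rw [hfree u' (Submodule.mem_inf.1 hu').1 e4, map_zero]
    have e5 : finrank F ↥(U.map x) = finrank F ↥U :=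
      (Submodule.equivMapOfInjective x hinj U).finrank_eq.symm
    have e6 : finrank F ↥(U ⊔ U.map x) ≤ 3 := by
      rw [← hW]
      apply Submodule.finrank_mono
      refine sup_le inf_le_left ?_
      rintro _ ⟨u', hu', rfl⟩
      exact hxW _ (Submodule.mem_inf.1 hu').1
    have e7 := Submodule.finrank_sup_add_finrank_inf_eq U (U.map x)
    rw [disjoint_iff.1 hd, finrank_bot, e5] at e7
    omega
  have h8 := key μ hμ
  have h9 := key (-μ) (neg_ne_zero.2 hμ)
  have h10 : LinearMap.range (x - 1) ≤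
      (LinearMap.range (x - 1) ⊓ LinearMap.ker (t - μ • (1 : V →ₗ[F] V))) ⊔
        (LinearMap.range (x - 1) ⊓ LinearMap.ker (t - (-μ) • (1 : V →ₗ[F] V))) := by
    intro w hw
    rw [Submodule.mem_sup]
    have hμ2 : (2 * μ) ≠ 0 := mul_ne_zero h2 hμ
    refine ⟨(2 * μ)⁻¹ • (t w + μ • w), ⟨Submodule.smul_mem _ _ (Submodule.add_mem _ (htW w hw)
      (Submodule.smul_mem _ _ hw)), ?_⟩, (2 * μ)⁻¹ • (μ • w - t w), ⟨Submodule.smul_mem _ _ (Submodule.sub_mem _
      (Submodule.smul_mem _ _ hw) (htW w hw)), ?_⟩, ?_⟩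
    · rw [SetLike.mem_coe, LinearMap.mem_ker, LinearMap.sub_apply, LinearMap.smul_apply, End.one_apply, map_smul,
        map_add, map_smul, ht, smul_comm μ, ← smul_sub]
      have : (μ * μ) • w + μ • t w - μ • (t w + μ • w) = 0 := by
        rw [smul_add, smul_smul]; abel
      rw [this, smul_zero]
    · rw [SetLike.mem_coe, LinearMap.mem_ker, LinearMap.sub_apply, LinearMap.smul_apply, End.one_apply, map_smul,
        map_sub, map_smul, ht, smul_comm (-μ), ← smul_sub]
      have : μ • t w - (μ * μ) • w - (-μ) • (μ • w - t w) = 0 := by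
        rw [smul_sub, smul_smul, neg_smul, neg_mul, neg_smul]; abel
      rw [this, smul_zero]
    · rw [← smul_add]
      have : t w + μ • w + (μ • w - t w) = (2 * μ) • w := by
        rw [two_mul, add_smul]; abel
      rw [this, smul_smul, inv_mul_cancel₀ hμ2, one_smul]
  have h11 := Submodule.finrank_mono h10
  have h12 := Submodule.finrank_add_le_finrank_add_finrank
    (LinearMap.range (x - 1) ⊓ LinearMap.ker (t - μ • (1 : V →ₗ[F] V)))
    (LinearMap.range (x - 1) ⊓ LinearMap.ker (t - (-μ) • (1 : V →ₗ[F] V)))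
  rw [hW] at h11
  omega

end lin

section psu

variable {F : Type} [Field F] [Fintype F]

open Cfsg.Agent.OddHalf.D6.QThree.U43Tw Cfsg.Agent.OddHalf.Small.U43Mat Cfsg.Agent.OddHalf.Small.U43Good
  Cfsg.Agent.ClassicalGeometry.UnitAutBasic in
/-- the centralizers of involutions of `PSU₄(3)` have order 1152 -/
theorem card_cent (hF : Fintype.card F = 9) {t : PSU 4 F 3} (ht2 : t * t = 1) (ht1 : t ≠ 1) :
    Nat.card ↥(centralizer ({t} : Set (PSU 4 F 3))) = 1152 := by
  have : Fact (Nat.Prime 3) := ⟨Nat.prime_three⟩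
  have : CharP F 3 := charP_of_card_eq_prime_pow (f := 2) (by rw [hF]; norm_num)
  obtain ⟨i, j, k, l, x₁, x₂, y, s, h, -, -⟩ := exists_tw (F := F) hF
  obtain ⟨g, rfl⟩ := one_class hF t ht2 ht1
  rw [← h.card_cent]
  have e1 : (centralizer ({pr 4 F 3 d} : Set (PSU 4 F 3))).map (MulAut.conj g).toMonoidHom =
      centralizer ({g * pr 4 F 3 d * g⁻¹} : Set (PSU 4 F 3)) := by
    ext y
    rw [Subgroup.mem_map]
    constructor
    · rintro ⟨w, hw, rfl⟩
      rw [mem_centralizer_singleton_iff] at hw ⊢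
      have := congrArg (fun x => g * x * g⁻¹) hw
      simpa only [mul_assoc, _root_.MulEquiv.toMonoidHom_eq_coe, _root_.MonoidHom.coe_coe, _root_.MulAut.conj_apply, _root_.inv_mul_cancel_left, _root_.mul_right_inj] using this
    · intro hy
      refine ⟨g⁻¹ * y * g, ?_, ?_⟩
      · rw [mem_centralizer_singleton_iff] at hy ⊢
        have := congrArg (fun x => g⁻¹ * x * g) hy
        simpa only [mul_assoc, _root_.inv_mul_cancel, _root_.mul_one, _root_.inv_mul_cancel_left] using this
      · change g * (g⁻¹ * y * g) * g⁻¹ = y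
        group
  rw [← e1]
  exact (Nat.card_congr ((centralizer ({pr 4 F 3 d} : Set (PSU 4 F 3))).equivMapOfInjective _
    (MulAut.conj g).injective).toEquiv).symm

theorem center_pow (hF : Fintype.card F = 9) {c : SU 4 F 3} (hc : c ∈ center (SU 4 F 3)) : c ^ 4 = 1 := by
  obtain ⟨a, ha1, ha2, rfl⟩ := (LieClassical.SUBasic.mem_center_SU_iff (by rw [hF]; norm_num) (by norm_num) c).1 hc
  apply Subtype.ext
  apply Subtype.ext
  change (((LieClassical.SUBasic.suScalar 3 a ha1 ha2 : SU 4 F 3) : Matrix.SpecialLinearGroup (Fin 4) F) :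
    Matrix (Fin 4) (Fin 4) F) ^ 4 = 1
  rw [LieClassical.SUBasic.coe_suScalar, Matrix.diagonal_pow]
  have : ((fun _ => a : Fin 4 → F) ^ 4) = fun _ => 1 := by
    funext i
    exact ha1
  rw [this, Matrix.diagonal_one]

theorem no_inv (hF : Fintype.card F = 9) {x t : PSU 4 F 3} (hx : x ^ 7 = 1) (hx1 : x ≠ 1) (ht : t ^ 2 = 1)
    (h : t * x * t⁻¹ = x⁻¹) : False := by
  obtain ⟨X, rfl⟩ := QuotientGroup.mk'_surjective (Subgroup.center (SU 4 F 3)) x
  obtain ⟨T, rfl⟩ := QuotientGroup.mk'_surjective (Subgroup.center (SU 4 F 3)) t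
  have hX1 : X ^ 7 ∈ center (SU 4 F 3) := by
    rw [← map_pow] at hx
    exact (QuotientGroup.eq_one_iff _).1 hx
  have hT1 : T ^ 2 ∈ center (SU 4 F 3) := by
    rw [← map_pow] at ht
    exact (QuotientGroup.eq_one_iff _).1 ht
  set Y := X ^ 8 with hY
  have hYx : QuotientGroup.mk' (center (SU 4 F 3)) Y = QuotientGroup.mk' (center (SU 4 F 3)) X := by
    rw [hY, map_pow, pow_succ, hx, one_mul]
  have hY7 : Y ^ 7 = 1 := by
    have h1 := center_pow hF hX1
    rw [hY, ← pow_mul]
    have : X ^ (8 * 7) = ((X ^ 7) ^ 4) ^ 2 := by rw [← pow_mul, ← pow_mul]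
    rw [this, h1, one_pow]
  have hc : T * Y * T⁻¹ * Y ∈ center (SU 4 F 3) := by
    apply (QuotientGroup.eq_one_iff _).1
    change QuotientGroup.mk' (center (SU 4 F 3)) (T * Y * T⁻¹ * Y) = 1
    rw [map_mul, map_mul, map_mul, map_inv, hYx, h, inv_mul_cancel]
  have hc1 : T * Y * T⁻¹ * Y = 1 := by
    have h4 := center_pow hF hc
    have h7 : (T * Y * T⁻¹ * Y) ^ 7 = 1 := by
      have hcomm : Commute (T * Y * T⁻¹ * Y) Y⁻¹ := ((mem_center_iff.1 hc) Y⁻¹).symm
      have h5 : (T * Y * T⁻¹ * Y) * Y⁻¹ = T * Y * T⁻¹ := by group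
      have h6 := hcomm.mul_pow 7
      rw [h5, inv_pow, hY7, inv_one, mul_one] at h6
      rw [← h6, conj_pow, hY7]
      group
    have h8 : (T * Y * T⁻¹ * Y) ^ 8 = 1 := by
      have : (T * Y * T⁻¹ * Y) ^ 8 = ((T * Y * T⁻¹ * Y) ^ 4) ^ 2 := by rw [← pow_mul]
      rw [this, h4, one_pow]
    rw [pow_succ, h7, one_mul] at h8
    exact h8
  have hYTY : Y * T * Y = T := by
    have h1 : T * Y * T⁻¹ = Y⁻¹ := mul_eq_one_iff_eq_inv.1 hc1
    have h2 : T * Y = Y⁻¹ * T := by rw [← h1]; group
    rw [mul_assoc, h2]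
    group
  obtain ⟨a, ha1, ha2, haT⟩ := (LieClassical.SUBasic.mem_center_SU_iff (by rw [hF]; norm_num) (by norm_num) _).1 hT1
  have ha0 : a ≠ 0 := by
    rintro rfl
    rw [zero_pow (by norm_num)] at ha1
    exact zero_ne_one ha1
  obtain ⟨μ, hμ⟩ : IsSquare a := by
    rw [FiniteField.isSquare_iff (fun h2 => ?_) ha0, hF]
    · exact ha1
    · have h3 := FiniteField.even_card_iff_char_two.1 h2
      rw [hF] at h3
      norm_num at h3
  have hμ0 : μ ≠ 0 := by
    rintro rfl
    rw [mul_zero] at hμ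
    exact ha0 hμ
  let f : Matrix (Fin 4) (Fin 4) F ≃ₐ[F] ((Fin 4 → F) →ₗ[F] (Fin 4 → F)) := Matrix.toLinAlgEquiv'
  let m : SU 4 F 3 →* Matrix (Fin 4) (Fin 4) F :=
    { toFun := fun g => (g : Matrix.SpecialLinearGroup (Fin 4) F).1
      map_one' := rfl
      map_mul' := fun _ _ => rfl }
  refine lin (F := F) (V := Fin 4 → F) hF (by simp) (f (m Y)) (f (m T)) hμ0 ?_ ?_ ?_ ?_
  · rw [← map_pow, ← map_pow, hY7, map_one, map_one]
  · intro h1
    apply hx1
    rw [← hYx]
    have h2 : m Y = 1 := f.injective (by rw [h1, map_one])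
    have h3 : Y = 1 := Subtype.ext (Subtype.ext h2)
    rw [h3, map_one]
  · intro v
    have h1 : f (m T) (f (m T) v) = f (m (T ^ 2)) v := by
      rw [pow_two, map_mul, map_mul]; rfl
    rw [h1, haT, ← hμ]
    have h2 : m (LieClassical.SUBasic.suScalar 3 a ha1 ha2 : SU 4 F 3) = a • (1 : Matrix (Fin 4) (Fin 4) F) := by
      change (((LieClassical.SUBasic.suScalar 3 a ha1 ha2 : SU 4 F 3) : Matrix.SpecialLinearGroup (Fin 4) F) :
        Matrix (Fin 4) (Fin 4) F) = _
      rw [LieClassical.SUBasic.coe_suScalar, Matrix.smul_one_eq_diagonal]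
    rw [h2, map_smul, map_one]
    rfl
  · intro v
    have h1 : f (m Y) (f (m T) (f (m Y) v)) = f (m (Y * T * Y)) v := by
      rw [map_mul, map_mul, map_mul, map_mul]; rfl
    rw [h1, hYTY]

end psu

end Cfsg.Agent.H236.USeven
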